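import Groth.Agent.Comod.Tame
import Mathlib.AlgebraicGeometry.Morphisms.ClosedImmersion
import Mathlib.AlgebraicGeometry.IdealSheaf.Functorial
import Mathlib.AlgebraicGeometry.Gluing
import Mathlib.RingTheory.TensorProduct.Quotient
import Mathlib.LinearAlgebra.TensorProduct.RightExactness

/-! # The categorical quotient of an affine scheme by a tame action, in all schemes -/

set_option linter.all false
set_option autoImplicit false

universe u

open CategoryTheory CategoryTheory.Limits AlgebraicGeometry TensorProduct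

noncomputable section

namespace Groth.Agent.TameQuot

variable {k : Type u} [CommRing k] {A : Type u} [CommRing A] [HopfAlgebra k A]
  {B : Type u} [CommRing B] [Algebra k B] [HopfRep.Comod k A B] [GLin.IsCoactAlg k A B]
  (α : A →ₗ[k] B) (hα : Hoch.IsComodHom A α) (h1 : α 1 = 1)

local notation "R₀" => TameAct.reynolds k A B B α

include h1 in
theorem reynolds_fix {c : B} (hc : c ∈ GLin.invariants k A B) : R₀ c = c :=
  Comod.reynolds_eq_self h1 hc

include hα h1 in
theorem reynolds_mem_map {P : Ideal (GLin.invariants k A B)} {x : B}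
    (hx : x ∈ P.map (algebraMap (GLin.invariants k A B) B)) :
    ∃ c ∈ P, (c : B) = R₀ x := by
  induction hx using Submodule.span_induction with
  | mem y hy =>
    obtain ⟨c, hc, rfl⟩ := hy
    exact ⟨c, hc, (reynolds_fix α h1 c.2).symm⟩
  | zero => exact ⟨0, P.zero_mem, by simp⟩
  | add y z _ _ hy hz =>
    obtain ⟨c, hc, ec⟩ := hy
    obtain ⟨d, hd, ed⟩ := hz
    exact ⟨c + d, P.add_mem hc hd, by simp [ec, ed]⟩
  | smul b y hy _ =>
    -- `y` lies in the span: expand it over the generators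
    clear * - hy hα h1
    revert b
    induction hy using Submodule.span_induction with
    | mem z hz =>
      intro b
      obtain ⟨c, hc, rfl⟩ := hz
      refine ⟨⟨R₀ b, Comod.reynolds_mem_fixedPts hα b⟩ * c, P.mul_mem_left _ hc, ?_⟩
      rw [smul_eq_mul, mul_comm b, show algebraMap (GLin.invariants k A B) B c * b = (c : B) • b from rfl,
        Comod.reynolds_smul_invariant α c.2]
      exact mul_comm _ _
    | zero => intro b; exact ⟨0, P.zero_mem, by simp⟩
    | add z w _ _ hz hw =>
      intro b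
      obtain ⟨c, hc, ec⟩ := hz b
      obtain ⟨d, hd, ed⟩ := hw b
      exact ⟨c + d, P.add_mem hc hd, by rw [smul_add, map_add, ← ec, ← ed]; rfl⟩
    | smul b' z _ hz =>
      intro b
      rw [smul_smul]
      exact hz (b * b')

include hα h1 in
/-- A stable ideal whose zero locus misses the fibre over `P` contains an invariant outside `P`. -/
theorem exists_invariant_notMem (J : Submodule B B)
    (hJ : HopfRep.IsSubcomod (k := k) (A := A) (J.restrictScalars k)) (P : PrimeSpectrum (GLin.invariants k A B))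
    (hmiss : ∀ q : PrimeSpectrum B, J ≤ q.asIdeal → q.asIdeal.comap (algebraMap _ B) ≠ P.asIdeal) :
    ∃ c : GLin.invariants k A B, c ∉ P.asIdeal ∧ (c : B) ∈ J := by
  classical
  let S : Submonoid B := P.asIdeal.primeCompl.map (algebraMap (GLin.invariants k A B) B)
  have hnd : ¬ Disjoint ((J ⊔ P.asIdeal.map (algebraMap (GLin.invariants k A B) B) : Ideal B) : Set B) S := by
    intro hd
    obtain ⟨q, hq, hle, hdisj⟩ := Ideal.exists_le_prime_disjoint _ S hd
    refine hmiss ⟨q, hq⟩ (le_sup_left.trans hle) (le_antisymm (fun c hc => ?_)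
      (Ideal.map_le_iff_le_comap.1 (le_sup_right.trans hle)))
    by_contra hcP
    exact Set.disjoint_left.1 hdisj hc ⟨c, hcP, rfl⟩
  obtain ⟨y, hy, c, hc, rfl⟩ := Set.not_disjoint_iff.1 hnd
  obtain ⟨j, hj, x, hx, hjx⟩ := Submodule.mem_sup.1 hy
  obtain ⟨d, hd, hdx⟩ := reynolds_mem_map α hα h1 hx
  refine ⟨⟨R₀ j, Comod.reynolds_mem_fixedPts hα j⟩, fun hmem => hc ?_, Comod.reynolds_mem_subcomod hJ hj⟩
  have e : c = ⟨R₀ j, Comod.reynolds_mem_fixedPts hα j⟩ + d := Subtype.ext (by
    show (c : B) = R₀ j + d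
    rw [hdx, ← map_add, hjx]
    exact (reynolds_fix α h1 c.2).symm)
  rw [e]
  exact P.asIdeal.add_mem hmem hd

variable {Z : Scheme.{u}} (ψ : Spec (CommRingCat.of B) ⟶ Z)
  (hψ : Spec.map (CommRingCat.ofHom (GLin.coactAlgHom k A B).toRingHom) ≫ ψ =
      Spec.map (CommRingCat.ofHom (Algebra.TensorProduct.includeLeftRingHom : B →+* TensorProduct k B A)) ≫ ψ)

include hψ in
/-- The preimage of a closed set is cut out by a stable ideal. -/
theorem exists_stable_ideal (F : TopologicalSpace.Closeds Z) :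
    ∃ J : Submodule B B, HopfRep.IsSubcomod (k := k) (A := A) (J.restrictScalars k) ∧
      ∀ q : PrimeSpectrum B, J ≤ q.asIdeal ↔ ψ q ∈ F := by
  let I := Scheme.IdealSheafData.vanishingIdeal F
  obtain ⟨J, e, he⟩ := (IsClosedImmersion.Spec_iff (f := pullback.fst ψ I.subschemeι)).1 inferInstance
  refine ⟨J, ?_, fun q => ?_⟩
  · let π := Ideal.Quotient.mkₐ k J
    let μ : B ⊗[k] A →ₐ[k] (B ⧸ J) ⊗[k] A := Algebra.TensorProduct.map π (AlgHom.id k A)
    let g : CommRingCat.of (B ⧸ J) ⟶ CommRingCat.of ((B ⧸ J) ⊗[k] A) :=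
      CommRingCat.ofHom (Algebra.TensorProduct.includeLeftRingHom)
    have hsq : Spec.map g ≫ Spec.map (CommRingCat.ofHom (Ideal.Quotient.mk J)) =
        Spec.map (CommRingCat.ofHom μ.toRingHom) ≫
          Spec.map (CommRingCat.ofHom (Algebra.TensorProduct.includeLeftRingHom : B →+* B ⊗[k] A)) := by
      rw [← Spec.map_comp, ← Spec.map_comp]
      congr 1
    let h : Spec (CommRingCat.of ((B ⧸ J) ⊗[k] A)) ⟶ pullback ψ I.subschemeι :=
      pullback.lift (Spec.map (CommRingCat.ofHom μ.toRingHom) ≫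
          Spec.map (CommRingCat.ofHom (GLin.coactAlgHom k A B).toRingHom))
        (Spec.map g ≫ e.inv ≫ pullback.snd ψ I.subschemeι) (by
          rw [Category.assoc, hψ, ← Category.assoc, ← hsq, Category.assoc, Category.assoc, Category.assoc,
            ← pullback.condition, ← Category.assoc e.inv]
          congr 1
          rw [he, Iso.inv_hom_id_assoc])
    have hf : Spec.map (Spec.preimage (h ≫ e.hom)) ≫ Spec.map (CommRingCat.ofHom (Ideal.Quotient.mk J)) =
        Spec.map (CommRingCat.ofHom μ.toRingHom) ≫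
          Spec.map (CommRingCat.ofHom (GLin.coactAlgHom k A B).toRingHom) := by
      rw [Spec.map_preimage, Category.assoc, ← he]
      exact pullback.lift_fst _ _ _
    rw [← Spec.map_comp, ← Spec.map_comp] at hf
    intro j hj
    have e1 := ConcreteCategory.congr_hom (Spec.map_injective hf) j
    have e2 : (Ideal.Quotient.mk J) j = 0 := Ideal.Quotient.eq_zero_iff_mem.2 hj
    have e3 : π.toLinearMap.rTensor A (HopfRep.Comod.coact (k := k) (A := A) j) = 0 := by
      refine (Eq.trans ?_ (e1.symm.trans ?_))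
      · show _ = μ (GLin.coactAlgHom k A B j)
        rw [GLin.coactAlgHom_apply]
        rfl
      · show (Spec.preimage (h ≫ e.hom)) ((Ideal.Quotient.mk J) j) = 0
        rw [e2, map_zero]
    have hex : Function.Exact ((J.restrictScalars k).subtype) π.toLinearMap := fun b =>
      ⟨fun hb => ⟨⟨b, Ideal.Quotient.eq_zero_iff_mem.1 hb⟩, rfl⟩,
        fun ⟨⟨b', hb'⟩, e⟩ => e ▸ Ideal.Quotient.eq_zero_iff_mem.2 hb'⟩
    exact (rTensor_exact A hex Ideal.Quotient.mk_surjective _).1 e3
  · have hr : Set.range (pullback.fst ψ I.subschemeι) = ψ ⁻¹' (F : Set Z) := by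
      rw [Scheme.Pullback.range_fst, Scheme.IdealSheafData.range_subschemeι,
        Scheme.IdealSheafData.coe_support_vanishingIdeal]
    have hr' : Set.range (pullback.fst ψ I.subschemeι) = PrimeSpectrum.zeroLocus (J : Set B) := by
      haveI : Epi e.hom.base := inferInstance
      rw [he, Scheme.Hom.comp_base, TopCat.coe_comp,
        Set.range_comp, (TopCat.epi_iff_surjective _).1 ‹Epi e.hom.base› |>.range_eq, Set.image_univ]
      exact _root_.range_comap_of_surjective _ _ Ideal.Quotient.mk_surjective |>.trans (by rw [Ideal.mk_ker])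
    exact Iff.trans Iff.rfl (Set.ext_iff.1 (hr'.symm.trans hr) q)

include hα h1 in
theorem exists_over (P : PrimeSpectrum (GLin.invariants k A B)) :
    ∃ q : PrimeSpectrum B, q.asIdeal.comap (algebraMap _ B) = P.asIdeal := by
  by_contra! hno
  obtain ⟨c, hc, hc0⟩ := exists_invariant_notMem α hα h1 ⊥
    (fun x hx => by
      rw [show x = 0 from hx, map_zero]
      exact Submodule.zero_mem _) P fun q _ => hno q
  exact hc (by rw [show c = 0 from Subtype.ext hc0]; exact P.asIdeal.zero_mem)

local notation "C₀" => GLin.invariants k A B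

local notation "f₀" => Spec.map (CommRingCat.ofHom (algebraMap (GLin.invariants k A B) B))

include hα h1 in
theorem surjective_proj : Function.Surjective f₀ := fun P => by
  obtain ⟨q, hq⟩ := exists_over α hα h1 P
  exact ⟨q, PrimeSpectrum.ext hq⟩

include hα h1 hψ in
/-- Near every point of the quotient, the morphism lands in an affine open. -/
theorem exists_nbhd (P : PrimeSpectrum C₀) :
    ∃ (c : C₀) (V : Z.Opens), c ∉ P.asIdeal ∧ IsAffineOpen V ∧
      ∀ q : PrimeSpectrum B, (c : B) ∉ q.asIdeal → ψ q ∈ V := by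
  classical
  obtain ⟨t, ht⟩ := (isCompact_range ψ.continuous).elim_finite_subcover
    (fun V : Z.affineOpens => (V.1 : Set Z)) (fun V => V.1.2) (fun z _ => by
      obtain ⟨_, ⟨V, hV, rfl⟩, hz, -⟩ := Z.isBasis_affineOpens.exists_subset_of_mem_open (Set.mem_univ z) isOpen_univ
      exact Set.mem_iUnion.2 ⟨⟨V, hV⟩, hz⟩)
  suffices ∃ V ∈ t, ∀ q : PrimeSpectrum B, q.asIdeal.comap (algebraMap _ B) = P.asIdeal → ψ q ∈ V.1 by
    obtain ⟨V, -, hV⟩ := this
    obtain ⟨J, hJ, hJq⟩ := exists_stable_ideal ψ hψ ⟨(V.1 : Set Z)ᶜ, V.1.2.isClosed_compl⟩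
    obtain ⟨c, hc, hcJ⟩ := exists_invariant_notMem α hα h1 J hJ P fun q hq he => (hJq q).1 hq (hV q he)
    exact ⟨c, V.1, hc, V.2, fun q hq => by_contra fun hn => hq ((hJq q).2 hn hcJ)⟩
  by_contra! hno
  choose! q hq hqV using hno
  have hJ : ∀ V : Z.affineOpens, ∃ J : Submodule B B, HopfRep.IsSubcomod (k := k) (A := A) (J.restrictScalars k) ∧
      ∀ q : PrimeSpectrum B, J ≤ q.asIdeal ↔ ψ q ∉ V.1 := fun V => by
    obtain ⟨J, hJ, hJq⟩ := exists_stable_ideal ψ hψ ⟨(V.1 : Set Z)ᶜ, V.1.2.isClosed_compl⟩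
    exact ⟨J, hJ, hJq⟩
  choose J hJ hJq using hJ
  -- no finite sum of these ideals meets the invariants outside `P`
  have hsum : ∀ s : Finset Z.affineOpens, s ⊆ t → ∀ j ∈ s.sup J, ∀ hc : R₀ j ∈ C₀,
      (⟨R₀ j, hc⟩ : C₀) ∈ P.asIdeal := by
    intro s
    induction s using Finset.induction_on with
    | empty =>
      intro _ j hj hc
      rw [Finset.sup_empty] at hj
      have : (⟨R₀ j, hc⟩ : C₀) = 0 := Subtype.ext (by
        show R₀ j = 0
        rw [show j = 0 from hj, map_zero])
      rw [this]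
      exact P.asIdeal.zero_mem
    | insert V s hV ih =>
      intro hst j hj hc
      rw [Finset.sup_insert] at hj
      obtain ⟨a, ha, b, hb, rfl⟩ := Submodule.mem_sup.1 hj
      have hVt : V ∈ t := hst (Finset.mem_insert_self _ _)
      have e : (⟨R₀ (a + b), hc⟩ : C₀) =
          ⟨R₀ a, Comod.reynolds_mem_fixedPts hα a⟩ + ⟨R₀ b, Comod.reynolds_mem_fixedPts hα b⟩ :=
        Subtype.ext (map_add _ _ _)
      rw [e]
      refine P.asIdeal.add_mem ?_ (ih (fun v hv => hst (Finset.mem_insert_of_mem hv)) b hb _)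
      rw [← hq V hVt]
      exact (hJq V (q V hVt)).2 (hqV V hVt) (Comod.reynolds_mem_subcomod (hJ V) ha)
  by_cases htop : t.sup J = ⊤
  · refine P.isPrime.ne_top ((Ideal.eq_top_iff_one _).2 ?_)
    have h := hsum t subset_rfl 1 (htop ▸ Submodule.mem_top) (Comod.reynolds_mem_fixedPts hα 1)
    convert h using 1
    exact Subtype.ext (reynolds_fix α h1 (one_mem (GLin.invariants k A B))).symm
  · obtain ⟨m, hm, hle⟩ := Ideal.exists_le_maximal _ htop
    obtain ⟨V, hVt, hV⟩ : ∃ V ∈ t, ψ (⟨m, hm.isPrime⟩ : PrimeSpectrum B) ∈ V.1 := by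
      simpa using ht ⟨⟨m, hm.isPrime⟩, rfl⟩
    exact (hJq V _).1 ((Finset.le_sup hVt).trans hle) hV

theorem awayMap_injective (c : C₀) :
    Function.Injective (Localization.awayMap (algebraMap C₀ B) c) := by
  rw [injective_iff_map_eq_zero]
  intro x hx
  obtain ⟨⟨a, ⟨_, m, rfl⟩⟩, ha⟩ := IsLocalization.surj (Submonoid.powers c) x
  have h2 : algebraMap B (Localization.Away (algebraMap C₀ B c)) (algebraMap C₀ B a) = 0 := by
    have := congrArg (Localization.awayMap (algebraMap C₀ B) c) ha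
    rw [map_mul, hx, zero_mul, Localization.awayMap, IsLocalization.Away.map, IsLocalization.map_eq] at this
    exact this.symm
  obtain ⟨⟨_, j, rfl⟩, hj⟩ := (IsLocalization.map_eq_zero_iff (Submonoid.powers (algebraMap C₀ B c)) _ _).1 h2
  have h3 : c ^ j * a = 0 := Subtype.ext (by simpa using hj)
  have h4 : algebraMap C₀ (Localization.Away c) a = 0 :=
    (IsLocalization.map_eq_zero_iff (Submonoid.powers c) _ _).2 ⟨⟨c ^ j, j, rfl⟩, h3⟩
  rw [h4] at ha
  exact (IsUnit.mul_left_eq_zero (IsLocalization.map_units _ (⟨c ^ m, m, rfl⟩ : Submonoid.powers c))).1 ha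

theorem exists_factor (c : C₀) {R : Type u} [CommRing R] (g : R →+* Localization.Away (algebraMap C₀ B c))
    (hg : ∀ (Q : Type u) [CommRing Q] (m₁ m₂ : Localization.Away (algebraMap C₀ B c) →+* Q)
      (τ : B ⊗[k] A →+* Q), m₁.comp (algebraMap B _) = τ.comp (GLin.coactAlgHom k A B).toRingHom →
      m₂.comp (algebraMap B _) = τ.comp Algebra.TensorProduct.includeLeftRingHom → m₁.comp g = m₂.comp g) :
    ∃ φ : R →+* Localization.Away c, (Localization.awayMap (algebraMap C₀ B) c).comp φ = g := by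
  let t : B ⊗[k] A := (c : B) ⊗ₜ[k] (1 : A)
  let Q := Localization.Away t
  let τ := algebraMap (B ⊗[k] A) Q
  have hu1 : IsUnit (τ.comp (GLin.coactAlgHom k A B).toRingHom (algebraMap C₀ B c)) := by
    rw [RingHom.comp_apply, show (GLin.coactAlgHom k A B).toRingHom (algebraMap C₀ B c) = t from c.2]
    exact IsLocalization.Away.algebraMap_isUnit t
  have hu2 : IsUnit (τ.comp Algebra.TensorProduct.includeLeftRingHom (algebraMap C₀ B c)) :=
    IsLocalization.Away.algebraMap_isUnit t
  let m₁ : Localization.Away (algebraMap C₀ B c) →+* Q := IsLocalization.Away.lift _ hu1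
  let m₂ : Localization.Away (algebraMap C₀ B c) →+* Q := IsLocalization.Away.lift _ hu2
  have e1 : m₁.comp (algebraMap B _) = τ.comp (GLin.coactAlgHom k A B).toRingHom := IsLocalization.Away.lift_comp _ hu1
  have e2 : m₂.comp (algebraMap B _) = τ.comp Algebra.TensorProduct.includeLeftRingHom := IsLocalization.Away.lift_comp _ hu2
  have hg' := hg Q m₁ m₂ τ e1 e2
  have hmem : ∀ r, g r ∈ (Localization.awayMap (algebraMap C₀ B) c).range := by
    intro r
    obtain ⟨⟨b, ⟨_, n, rfl⟩⟩, hb⟩ := IsLocalization.surj (Submonoid.powers (algebraMap C₀ B c)) (g r)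
    have hr := RingHom.congr_fun hg' r
    simp only [RingHom.comp_apply] at hr
    have f1 := congrArg m₁ hb
    have f2 := congrArg m₂ hb
    simp only [map_mul] at f1 f2
    rw [show ∀ z, m₁ (algebraMap B _ z) = τ (GLin.coactAlgHom k A B z) from fun z => RingHom.congr_fun e1 z,
      show ∀ z, m₁ (algebraMap B _ z) = τ (GLin.coactAlgHom k A B z) from fun z => RingHom.congr_fun e1 z] at f1
    rw [show ∀ z, m₂ (algebraMap B _ z) = τ (z ⊗ₜ[k] (1 : A)) from fun z => RingHom.congr_fun e2 z,
      show ∀ z, m₂ (algebraMap B _ z) = τ (z ⊗ₜ[k] (1 : A)) from fun z => RingHom.congr_fun e2 z] at f2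
    have hcn : GLin.coactAlgHom k A B ((algebraMap C₀ B c) ^ n) = ((algebraMap C₀ B c) ^ n) ⊗ₜ[k] (1 : A) :=
      (pow_mem c.2 n : (c : B) ^ n ∈ GLin.invariants k A B)
    rw [hcn, hr] at f1
    obtain ⟨⟨_, N, rfl⟩, hN⟩ := (IsLocalization.eq_iff_exists (Submonoid.powers t) Q).1 (f1.symm.trans f2)
    simp only [t, Algebra.TensorProduct.tmul_pow, one_pow, GLin.coactAlgHom_apply, Algebra.TensorProduct.tmul_mul_tmul,
      one_mul] at hN
    have hinv : (c : B) ^ N * b ∈ GLin.invariants k A B := by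
      rw [GLin.mem_invariants_iff, GLin.IsCoactAlg.coact_mul (k := k),
        show HopfRep.Comod.coact (k := k) (A := A) ((c : B) ^ N) = ((c : B) ^ N) ⊗ₜ[k] (1 : A) from pow_mem c.2 N, hN]
    refine ⟨IsLocalization.mk' _ (⟨_, hinv⟩ : C₀) (⟨c ^ (N + n), N + n, rfl⟩ : Submonoid.powers c), ?_⟩
    rw [Localization.awayMap, IsLocalization.Away.map, IsLocalization.map_mk', IsLocalization.mk'_eq_iff_eq_mul,
      show g r * algebraMap B _ (algebraMap C₀ B (c ^ (N + n))) = algebraMap B _ ((c : B) ^ N * b) by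
        rw [map_pow, pow_add, map_mul, mul_left_comm, hb, map_mul]
        rfl]
    rfl
  let e := RingEquiv.ofBijective (Localization.awayMap (algebraMap C₀ B) c).rangeRestrict
    ⟨fun x y h => awayMap_injective c (congrArg Subtype.val h), RingHom.rangeRestrict_surjective _⟩
  refine ⟨e.symm.toRingHom.comp (g.codRestrict _ hmem), RingHom.ext fun r => ?_⟩
  exact congrArg Subtype.val (e.apply_symm_apply ⟨g r, hmem r⟩)

abbrev ιC (c : C₀) : Spec (CommRingCat.of (Localization.Away c)) ⟶ Spec (CommRingCat.of C₀) :=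
  Spec.map (CommRingCat.ofHom (algebraMap C₀ (Localization.Away c)))

theorem awayMap_comp (c : C₀) :
    (Localization.awayMap (algebraMap C₀ B) c).comp (algebraMap C₀ (Localization.Away c)) =
      (algebraMap B (Localization.Away (algebraMap C₀ B c))).comp (algebraMap C₀ B) := by
  rw [Localization.awayMap, IsLocalization.Away.map, IsLocalization.map_comp]

theorem range_ιC (c : C₀) : Set.range (ιC c) = {P : PrimeSpectrum C₀ | c ∉ P.asIdeal} :=
  PrimeSpectrum.localization_away_comap_range (Localization.Away c) c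

include hα h1 in
theorem eq_of_pullback {W : Scheme.{u}} (w : W ⟶ Spec (CommRingCat.of C₀)) [IsOpenImmersion w] (u v : W ⟶ Z)
    (h : pullback.fst w f₀ ≫ u = pullback.fst w f₀ ≫ v) : u = v := by
  haveI : Surjective f₀ := ⟨surjective_proj α hα h1⟩
  have hbase : ∀ x : W, u x = v x := fun x => by
    obtain ⟨y, hy⟩ : x ∈ Set.range (pullback.fst w f₀) := by
      rw [Scheme.Pullback.range_fst, (surjective_proj α hα h1).range_eq]; trivial
    rw [← hy]
    exact congrArg (fun r : pullback w f₀ ⟶ Z => r y) h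
  have hloc : ∀ x : W, ∃ (c : C₀) (j : Spec (CommRingCat.of (Localization.Away c)) ⟶ W),
      j ≫ w = ιC c ∧ x ∈ Set.range j ∧ j ≫ u = j ≫ v := by
    intro x
    obtain ⟨_, ⟨V, hV, rfl⟩, hxV, -⟩ :=
      Z.isBasis_affineOpens.exists_subset_of_mem_open (Set.mem_univ (u x)) isOpen_univ
    have hO : IsOpen (w '' ((u ⁻¹ᵁ V : W.Opens) : Set W)) := w.isOpenEmbedding.isOpenMap _ (u ⁻¹ᵁ V).2
    obtain ⟨_, ⟨c, rfl⟩, hxc, hc⟩ :=
      PrimeSpectrum.isTopologicalBasis_basic_opens.exists_subset_of_mem_open (Set.mem_image_of_mem w hxV) hO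
    have hsub : Set.range (ιC c) ⊆ w '' ((u ⁻¹ᵁ V : W.Opens) : Set W) := by rw [range_ιC]; exact hc
    let j := IsOpenImmersion.lift w (ιC c) (hsub.trans (Set.image_subset_range _ _))
    have hj : j ≫ w = ιC c := IsOpenImmersion.lift_fac _ _ _
    have hjV : ∀ y, u (j y) ∈ V := fun y => by
      obtain ⟨z, hz, e⟩ := hsub ⟨y, rfl⟩
      rw [show j y = z from w.isOpenEmbedding.injective (by rw [← Scheme.Hom.comp_apply, hj, e])]
      exact hz
    refine ⟨c, j, hj, ?_, ?_⟩
    · obtain ⟨y, hy⟩ := (range_ιC c).ge hxc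
      exact ⟨y, w.isOpenEmbedding.injective (by rw [← Scheme.Hom.comp_apply, hj, hy])⟩
    let e := hV.isoSpec
    let uu : Spec (CommRingCat.of (Localization.Away c)) ⟶ (Scheme.Opens.toScheme V) :=
      IsOpenImmersion.lift (Scheme.Opens.ι V) (j ≫ u) (by rintro _ ⟨y, rfl⟩; rw [(Scheme.Opens.range_ι V)]; exact hjV y)
    let vv : Spec (CommRingCat.of (Localization.Away c)) ⟶ (Scheme.Opens.toScheme V) :=
      IsOpenImmersion.lift (Scheme.Opens.ι V) (j ≫ v) (by
        rintro _ ⟨y, rfl⟩
        rw [(Scheme.Opens.range_ι V), Scheme.Hom.comp_apply, ← hbase]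
        exact hjV y)
    let β : Spec (CommRingCat.of (Localization.Away (algebraMap C₀ B c))) ⟶ Spec (CommRingCat.of (Localization.Away c)) :=
      Spec.map (CommRingCat.ofHom (Localization.awayMap (algebraMap C₀ B) c))
    have hβ : β ≫ ιC c = Spec.map (CommRingCat.ofHom (algebraMap B (Localization.Away (algebraMap C₀ B c)))) ≫ f₀ := by
      rw [← Spec.map_comp, ← Spec.map_comp, ← CommRingCat.ofHom_comp, ← CommRingCat.ofHom_comp, awayMap_comp]
    let l := pullback.lift (β ≫ j) (Spec.map (CommRingCat.ofHom (algebraMap B (Localization.Away (algebraMap C₀ B c)))))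
      (by rw [Category.assoc, hj, hβ])
    have hl : l ≫ pullback.fst w f₀ = β ≫ j := pullback.lift_fst _ _ _
    have hβuv : β ≫ uu = β ≫ vv := by
      rw [← cancel_mono (Scheme.Opens.ι V)]
      simp only [Category.assoc, uu, vv, IsOpenImmersion.lift_fac]
      rw [← Category.assoc, ← hl, Category.assoc, h, ← Category.assoc, hl, Category.assoc]
    have huv : uu ≫ e.hom = vv ≫ e.hom := by
      rw [← Spec.map_preimage (uu ≫ e.hom), ← Spec.map_preimage (vv ≫ e.hom)]
      congr 1
      have h3 : Spec.map (Spec.preimage (uu ≫ e.hom) ≫ CommRingCat.ofHom (Localization.awayMap (algebraMap C₀ B) c)) =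
          Spec.map (Spec.preimage (vv ≫ e.hom) ≫ CommRingCat.ofHom (Localization.awayMap (algebraMap C₀ B) c)) := by
        rw [Spec.map_comp, Spec.map_comp, Spec.map_preimage, Spec.map_preimage, reassoc_of% hβuv]
      ext z
      exact awayMap_injective c (ConcreteCategory.congr_hom (Spec.map_injective h3) z)
    rw [cancel_mono] at huv
    exact (IsOpenImmersion.lift_fac _ _ _).symm.trans
      ((congrArg (· ≫ (Scheme.Opens.ι V)) huv).trans (IsOpenImmersion.lift_fac _ _ _))
  choose c j hj hxj hju using hloc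
  haveI : ∀ x, IsOpenImmersion (j x) := fun x =>
    haveI : IsOpenImmersion (j x ≫ w) := by
      rw [hj]
      exact IsOpenImmersion.of_isLocalization (c x)
    IsOpenImmersion.of_comp (j x) w
  let 𝒰 : W.OpenCover := Scheme.Cover.mkOfCovers W (fun x => Spec (CommRingCat.of (Localization.Away (c x)))) j
    (fun x => ⟨x, hxj x⟩) (fun x => inferInstance)
  exact Scheme.Cover.hom_ext 𝒰 _ _ hju

include hα h1 hψ in
theorem existsUnique_desc :
    ∃! χ : Spec (CommRingCat.of C₀) ⟶ Z, f₀ ≫ χ = ψ := by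
  choose c V hc hV hcV using exists_nbhd α hα h1 ψ hψ
  let β : ∀ P, Spec (CommRingCat.of (Localization.Away (algebraMap C₀ B (c P)))) ⟶
      Spec (CommRingCat.of (Localization.Away (c P))) :=
    fun P => Spec.map (CommRingCat.ofHom (Localization.awayMap (algebraMap C₀ B) (c P)))
  let ιB : ∀ P, Spec (CommRingCat.of (Localization.Away (algebraMap C₀ B (c P)))) ⟶ Spec (CommRingCat.of B) :=
    fun P => Spec.map (CommRingCat.ofHom (algebraMap B _))
  have hloc : ∀ P, ∃ χ : Spec (CommRingCat.of (Localization.Away (c P))) ⟶ Z, β P ≫ χ = ιB P ≫ ψ := by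
    intro P
    let ψ' := IsOpenImmersion.lift (V P).ι (ιB P ≫ ψ) (by
      rintro _ ⟨y, rfl⟩
      rw [(V P).range_ι]
      refine hcV P _ ?_
      exact (PrimeSpectrum.localization_away_comap_range (Localization.Away (algebraMap C₀ B (c P))) (algebraMap C₀ B (c P))).le ⟨y, rfl⟩)
    let g := Spec.preimage (ψ' ≫ (hV P).isoSpec.hom)
    obtain ⟨φ, hφ⟩ := exists_factor (c P) g.hom (fun Q _ m₁ m₂ τ e1 e2 => by
      have hcomp : Spec.map (CommRingCat.ofHom m₁) ≫ ψ' = Spec.map (CommRingCat.ofHom m₂) ≫ ψ' := by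
        rw [← cancel_mono (V P).ι]
        simp only [Category.assoc, ψ', IsOpenImmersion.lift_fac, ιB]
        rw [← Spec.map_comp_assoc, ← Spec.map_comp_assoc, ← CommRingCat.ofHom_comp, ← CommRingCat.ofHom_comp,
          e1, e2, CommRingCat.ofHom_comp, CommRingCat.ofHom_comp, Spec.map_comp_assoc, Spec.map_comp_assoc, hψ]
      have h3 : Spec.map (g ≫ CommRingCat.ofHom m₁) = Spec.map (g ≫ CommRingCat.ofHom m₂) := by
        rw [Spec.map_comp, Spec.map_comp, Spec.map_preimage, reassoc_of% hcomp]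
      exact congrArg CommRingCat.Hom.hom (Spec.map_injective h3))
    refine ⟨Spec.map (CommRingCat.ofHom φ) ≫ (hV P).isoSpec.inv ≫ (V P).ι, ?_⟩
    rw [← Category.assoc, ← Spec.map_comp, show CommRingCat.ofHom φ ≫ CommRingCat.ofHom (Localization.awayMap
      (algebraMap C₀ B) (c P)) = g from CommRingCat.hom_ext hφ, Spec.map_preimage, Category.assoc,
      Iso.hom_inv_id_assoc, IsOpenImmersion.lift_fac]
  choose χ hχ using hloc
  haveI : ∀ P, IsOpenImmersion (ιC (c P)) := fun P => IsOpenImmersion.of_isLocalization (c P)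
  let 𝒰 : (Spec (CommRingCat.of C₀)).OpenCover :=
    Scheme.Cover.mkOfCovers (PrimeSpectrum C₀) (fun P => Spec (CommRingCat.of (Localization.Away (c P)))) (fun P => ιC (c P))
      (fun P => ⟨P, (range_ιC (c P)).ge (hc P)⟩) (fun P => inferInstance)
  -- after pulling back to `Spec B` each piece is `ψ`
  have key : ∀ (P) {W : Scheme.{u}} (s : W ⟶ Spec (CommRingCat.of (Localization.Away (c P)))) (q : W ⟶ Spec (CommRingCat.of B)),
      s ≫ ιC (c P) = q ≫ f₀ → s ≫ χ P = q ≫ ψ := by
    intro P W s q hsq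
    have hrange : Set.range q ⊆ Set.range (ιB P) := by
      rintro _ ⟨y, rfl⟩
      refine (PrimeSpectrum.localization_away_comap_range (Localization.Away (algebraMap C₀ B (c P))) (algebraMap C₀ B (c P))).ge ?_
      intro hmem
      have : ιC (c P) (s y) = f₀ (q y) := congrArg (fun r : W ⟶ _ => r y) hsq
      have h4 := (range_ιC (c P)).le ⟨s y, rfl⟩
      rw [this] at h4
      exact h4 hmem
    haveI : IsOpenImmersion (ιB P) := IsOpenImmersion.of_isLocalization (algebraMap C₀ B (c P))
    let q' := IsOpenImmersion.lift (ιB P) q hrange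
    have hq' : q' ≫ ιB P = q := IsOpenImmersion.lift_fac _ _ _
    have hs : q' ≫ β P = s := by
      rw [← cancel_mono (ιC (c P)), hsq, Category.assoc, ← hq', Category.assoc]
      congr 1
      rw [← Spec.map_comp, ← Spec.map_comp, ← CommRingCat.ofHom_comp, ← CommRingCat.ofHom_comp, awayMap_comp]
    rw [← hs, Category.assoc, hχ, reassoc_of% hq']
  have hglue : ∀ x y : PrimeSpectrum C₀, pullback.fst (ιC (c x)) (ιC (c y)) ≫ χ x = pullback.snd _ _ ≫ χ y := by
    intro x y
    let w := pullback.fst (ιC (c x)) (ιC (c y)) ≫ ιC (c x)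
    have e1 := key x (pullback.fst w f₀ ≫ pullback.fst (ιC (c x)) (ιC (c y))) (pullback.snd w f₀)
      (by rw [Category.assoc]; exact pullback.condition)
    have e2 := key y (pullback.fst w f₀ ≫ pullback.snd (ιC (c x)) (ιC (c y))) (pullback.snd w f₀)
      (by rw [Category.assoc, ← pullback.condition (f := ιC (c x))]; exact pullback.condition)
    refine eq_of_pullback α hα h1 w _ _ ?_
    rw [← Category.assoc, ← Category.assoc, e1, e2]
  refine ⟨𝒰.glueMorphisms χ hglue, ?_, fun χ' hχ' => ?_⟩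
  · refine Scheme.Cover.hom_ext (𝒰.pullback₁ f₀) _ _ fun P => ?_
    change pullback.fst f₀ (𝒰.f P) ≫ f₀ ≫ _ = pullback.fst f₀ (𝒰.f P) ≫ ψ
    rw [pullback.condition_assoc, 𝒰.ι_glueMorphisms]
    exact key P _ _ pullback.condition.symm
  · refine eq_of_pullback α hα h1 (𝟙 _) _ _ ?_
    have hp : pullback.fst (𝟙 (Spec (CommRingCat.of C₀))) f₀ = pullback.snd _ f₀ ≫ f₀ := by
      have := pullback.condition (f := 𝟙 (Spec (CommRingCat.of C₀))) (g := f₀)
      rwa [Category.comp_id] at this
    rw [hp, Category.assoc, Category.assoc, hχ']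
    congr 1
    refine (Scheme.Cover.hom_ext (𝒰.pullback₁ f₀) _ _ fun P => ?_).symm
    change pullback.fst f₀ (𝒰.f P) ≫ f₀ ≫ _ = pullback.fst f₀ (𝒰.f P) ≫ ψ
    rw [pullback.condition_assoc, 𝒰.ι_glueMorphisms]
    exact key P _ _ pullback.condition.symm

end Groth.Agent.TameQuot
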